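import Cfsg.Agent.Lib.SpThreeCent.PartOne.Coords
import Cfsg.Agent.Lib.PSpAmalgam.Base
import Cfsg.Agent.Lib.PSpAmalgam.Small

/-!
# Diagonal signs without the inversion: the two local subgroups
-/

set_option autoImplicit false
set_option linter.style.haveILetI false
set_option maxRecDepth 100000
set_option synthInstance.maxSize 10000

namespace Cfsg.Agent.SpThreeCent

open Subgroup
open Cfsg.Agent.NineSym (Mn V3 Wt InL Wok jM wM wact kmul kact)
open Cfsg.Agent.PSpAmalgam (SL3)

/-- A signed permutation as a map of the four diagonal parts. -/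
def affFun (w : Wt) (x : Fin 4) : Fin 4 := kmul w.k (kact w.p x)

theorem affFun_inv : ∀ w : Wt, ∀ x, affFun w⁻¹ (affFun w x) = x ∧ affFun w (affFun w⁻¹ x) = x := by
  decide +kernel

/-- A signed permutation as a permutation of the four diagonal parts. -/
def affPerm (w : Wt) : Equiv.Perm (Fin 4) :=
  ⟨affFun w, affFun w⁻¹, fun x => (affFun_inv w x).1, fun x => (affFun_inv w x).2⟩

theorem affFun_mul : ∀ u w : Wt, ∀ x, affFun (u * w) x = affFun u (affFun w x) := by decide +kernel

theorem affPerm_mul (u w : Wt) : affPerm (u * w) = affPerm u * affPerm w := Equiv.ext (affFun_mul u w)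

theorem affFun_faithful : ∀ w : Wt, Wok false true w → (∀ x, affFun w x = x) → w = 1 := by decide +kernel

theorem affFun_one : ∀ x, affFun 1 x = x := by decide +kernel

theorem affPerm_surj : ∀ σ : Equiv.Perm (Fin 4), ∃ w : Wt, Wok false true w ∧ ∀ x, affFun w x = σ x := by
  decide +kernel

theorem signs_not_neg : ∀ w : Wt, Wok false true w → wact w (1, 1, 1) ≠ (-1, -1, -1) := by decide +kernel

namespace Loc

variable {G : Type*} [Group G] {a : G} {R J : Subgroup G} {φ : Mn → G}
variable (D : Loc a R J false true φ)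
include D

/-- The two local subgroups form an amalgam of the type of `PSp₄(3)`. -/
theorem amalgam [Finite G] :
    PSpAmalgam.Amalgam (normalizer (J : Set G)) (centralizer ({a} : Set G)) J R a := by
  classical
  have hne : a ≠ 1 := by
    intro e
    have := D.order
    rw [e, orderOf_one] at this
    omega
  choose sel hsel hself using fun x : normalizer (J : Set G) => D.norm_eq x x.2
  let π : normalizer (J : Set G) →* Equiv.Perm (Fin 4) := MonoidHom.mk' (fun x => affPerm (sel x).w)
    (fun x y => by
      rw [← affPerm_mul]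
      congr 1
      have e : sel (x * y) = sel x * sel y := D.inj _ _ (hsel _) (inL_mul (hsel x) (hsel y)) (by
        rw [hself, D.hom _ _ (hsel x) (hsel y), hself, hself]; rfl)
      rw [e]; rfl)
  have hval : ∀ (p : Mn) (hp : InL false true p), π ⟨φ p, D.mem_norm p hp⟩ = affPerm p.w := fun p hp => by
    rw [MonoidHom.mk'_apply, D.inj _ _ (hsel ⟨φ p, D.mem_norm p hp⟩) hp (hself _)]
  refine
    { card_A₁ := ?_
      card_A₂ := D.card
      card_Q₁ := D.card_J
      exp₁ := D.exp_J
      comm₁ := D.comm_J
      self₁ := fun g hg => D.self g fun j hj => (mem_centralizer_iff.1 hg j hj).symm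
      norm₁ := rfl
      sig := D.sig
      cent_z := rfl
      norm_z := ?_
      z_mem₁ := D.a_mem
      z_mem₂ := D.mem
      z_ne := hne
      le₂ := D.le
      card_Q₂ := D.card_R
      norm₂ := D.norm
      center₂ := D.center
      cube₂ := fun x hx => by rw [D.exp x hx]; exact one_mem _
      comm₂ := D.comm
      nat₂ := D.nat
      quot₂ := D.quot
      quot₁ := ⟨π, fun σ => ?_, fun x => ?_⟩
      not_le := ?_ }
  · rw [D.card_norm, show Nat.card {w : Wt // Wok false true w} = 24 by
      rw [Nat.card_eq_fintype_card]; decide +kernel]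
  · refine le_antisymm (fun g hg => ?_) fun g hg => ?_
    · have hm : g * a * g⁻¹ ∈ zpowers a := (mem_normalizer_iff.1 hg a).1 (mem_zpowers a)
      obtain ⟨n, hn⟩ := hm
      simp only at hn
      rw [← zpow_mod_orderOf a, D.order] at hn
      rcases (show n % ((3 : ℕ) : ℤ) = 0 ∨ n % ((3 : ℕ) : ℤ) = 1 ∨ n % ((3 : ℕ) : ℤ) = 2 by omega) with e | e | e <;>
        rw [e] at hn
      · rw [zpow_zero] at hn
        exact absurd (conj_eq_one_iff.1 hn.symm) hne
      · rw [zpow_one] at hn
        exact mem_centralizer_singleton_iff.2 (mul_inv_eq_iff_eq_mul.1 hn.symm)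
      · exfalso
        have h2 : a ^ (2 : ℤ) = a⁻¹ := by
          refine eq_inv_of_mul_eq_one_left ?_
          rw [← zpow_add_one, show (2 : ℤ) + 1 = ((3 : ℕ) : ℤ) by norm_num, zpow_natCast, ← D.order,
            pow_orderOf_eq_one]
        rw [h2, ← D.inv_a] at hn
        conv_rhs at hn => rw [← D.a_eq]
        obtain ⟨w, hw, he⟩ := D.fus' hn.symm
        exact signs_not_neg w hw he
    · have hc : Commute g a := mem_centralizer_singleton_iff.1 hg
      rw [mem_normalizer_iff]
      intro y
      constructor
      · rintro ⟨n, rfl⟩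
        exact ⟨n, by simp only; rw [(hc.zpow_right n).eq, mul_inv_cancel_right]⟩
      · rintro ⟨n, hn⟩
        refine ⟨n, ?_⟩
        simp only at hn ⊢
        calc a ^ n = g⁻¹ * (g * a ^ n * g⁻¹) * g := by group
          _ = g⁻¹ * a ^ n * g := by rw [(hc.zpow_right n).eq, mul_inv_cancel_right]
          _ = y := by rw [hn]; group
  · obtain ⟨w, hw, he⟩ := affPerm_surj σ
    exact ⟨⟨φ (wM w), D.mem_norm (wM w) hw⟩, (hval (wM w) hw).trans (Equiv.ext he)⟩
  · obtain ⟨p, hp, hpe⟩ := D.norm_eq x x.2
    obtain ⟨x, hx⟩ := x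
    simp only at hpe ⊢
    subst hpe
    rw [hval p hp]
    constructor
    · intro h
      have hw : p.w = 1 := affFun_faithful p.w hp fun y => Equiv.congr_fun h y
      exact (D.memJ _).2 ⟨p.v, congrArg φ (congrArg (Mn.mk p.v) hw).symm⟩
    · intro h
      obtain ⟨v, hv⟩ := (D.memJ _).1 h
      rw [← D.inj _ _ (inL_jM _ _ _) hp hv]
      exact Equiv.ext affFun_one
  · intro hle
    have h : Nat.card (centralizer ({a} : Set G)) ≤ Nat.card {p : Mn // InL false false p} := by
      refine Nat.card_le_card_of_surjective (fun p : {p : Mn // InL false false p} =>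
        (⟨φ p.1, mem_centralizer_singleton_iff.2 ?_⟩ : centralizer ({a} : Set G))) fun x => ?_
      · have e := D.conj_th (inL_mono p.2) (1, 1, 1)
        rw [(by decide +kernel : ∀ w : Wt, Wok false false w → wact w (1, 1, 1) = (1, 1, 1)) _ p.2, D.a_eq] at e
        exact mul_inv_eq_iff_eq_mul.1 e
      · obtain ⟨p, hp, he⟩ := D.cent_norm x (hle x.2) (mem_centralizer_singleton_iff.1 x.2)
        exact ⟨⟨p, hp⟩, Subtype.ext he⟩
    rw [D.card, card_inL, show Nat.card {w : Wt // Wok false false w} = 6 by
      rw [Nat.card_eq_fintype_card]; decide +kernel] at h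
    omega

end Loc

end Cfsg.Agent.SpThreeCent
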