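import Cfsg.Agent.Lib.SpThreeCent.PartOne.Plain
import Cfsg.Agent.Lib.SpThreeCent.PartOne.Amalgam
import Cfsg.Agent.Lib.PSpAmalgam.Centralizer
import Cfsg.Agent.S3221

/-!
# An element of order three not conjugate to its inverse
-/

set_option autoImplicit false
set_option linter.style.haveILetI false
set_option maxRecDepth 100000
set_option synthInstance.maxSize 10000

namespace Cfsg.Agent.SpThreeCent

open Subgroup
open Cfsg.Agent.NineSym (Mn V3 Wt InL Wok jM wM wact kmul kact)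
open Cfsg.Agent.PSpAmalgam (SL3)

universe uG uF

theorem signs_split : ∀ w : Wt, Wok false true w → ∃ k : Fin 4,
    w = (⟨false, k, 0⟩ : Wt) * (⟨false, 0, 1⟩ * ⟨false, k, 0⟩ * (⟨false, 0, 1⟩ : Wt)⁻¹) * ⟨false, 0, w.p⟩ := by
  decide +kernel

theorem wM_mul : ∀ u w : Wt, wM u * wM w = wM (u * w) := by decide +kernel

namespace Loc

variable {G : Type uG} [Group G] {a : G} {R J : Subgroup G} {φ : Mn → G}
variable (D : Loc a R J false true φ)
include D

/-- A subgroup of index two contains both local subgroups. -/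
theorem local_le [Finite G] {H : Subgroup G} (hH : H.index = 2) :
    normalizer (J : Set G) ≤ H ∧ centralizer ({a} : Set G) ≤ H := by
  have hsq : ∀ g : G, g * g ∈ H := fun g => mul_self_mem_of_index_two hH g
  have h3 : ∀ x : G, x ^ 3 = 1 → x ∈ H := fun x hx => by
    have e1 : x = x * x * (x * x) := by
      calc x = x ^ 3 * x := by rw [hx, one_mul]
        _ = _ := by simp [pow_succ, mul_assoc]
    rw [e1]
    exact mul_mem (hsq x) (hsq x)
  have hA2 : centralizer ({a} : Set G) ≤ H := by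
    intro g hg
    obtain ⟨π, hπs, hπ⟩ := D.quot
    obtain ⟨p, q, hpq⟩ := PSpAmalgam.sl_two_squares (π ⟨g, hg⟩)
    obtain ⟨a1, rfl⟩ := hπs p
    obtain ⟨a2, rfl⟩ := hπs q
    have hc : ((⟨g, hg⟩ * (a1 * a1 * (a2 * a2))⁻¹ : centralizer ({a} : Set G)) : G) ∈ R :=
      (hπ _).1 (by rw [map_mul, map_inv, hpq]; simp only [map_mul]; exact mul_inv_cancel _)
    have := mul_mem (h3 _ (D.exp _ hc)) (mul_mem (hsq (a1 : G)) (hsq (a2 : G)))
    simpa [mul_assoc] using this
  refine ⟨fun g hg => ?_, hA2⟩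
  obtain ⟨⟨v, w⟩, hp, rfl⟩ := D.norm_eq g hg
  rw [NineSym.mn_split, D.hom _ _ (inL_jM _ _ _) (show InL false true (wM w) from hp)]
  refine mul_mem (h3 _ (D.th_cube v)) ?_
  obtain ⟨k, hk⟩ := signs_split w hp
  have hd : Wok false true ⟨false, k, 0⟩ := (by decide +kernel : ∀ k, Wok false true ⟨false, k, 0⟩) k
  have hs : Wok false true ⟨false, 0, 1⟩ := by decide +kernel
  have hsi : Wok false true (⟨false, 0, 1⟩ : Wt)⁻¹ := by decide +kernel
  have hπ : Wok false true ⟨false, 0, w.p⟩ := (by decide +kernel : ∀ i, Wok false true ⟨false, 0, i⟩) w.p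
  have hperm : φ (wM ⟨false, 0, w.p⟩) ∈ H := hA2 (mem_centralizer_singleton_iff.2 (by
    have e := D.conj_th (p := wM ⟨false, 0, w.p⟩) hπ (1, 1, 1)
    rw [show wact (wM ⟨false, 0, w.p⟩ : Mn).w (1, 1, 1) = (1, 1, 1) from
      (by decide +kernel : ∀ i, wact ⟨false, 0, i⟩ (1, 1, 1) = (1, 1, 1)) w.p, D.a_eq] at e
    exact mul_inv_eq_iff_eq_mul.1 e))
  have hf : ∀ u z : Wt, Wok false true u → Wok false true z → φ (wM (u * z)) = φ (wM u) * φ (wM z) :=
    fun u z hu hz => by rw [← wM_mul, D.hom (wM u) (wM z) hu hz]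
  have hw2 := NineSym.wok_mul false true ⟨false, 0, 1⟩ ⟨false, k, 0⟩ hs hd
  have hw3 := NineSym.wok_mul false true _ _ hw2 hsi
  rw [hk, hf _ _ (NineSym.wok_mul false true _ _ hd hw3) hπ, hf _ _ hd hw3, hf _ _ hw2 hsi, hf _ _ hs hd]
  refine mul_mem ?_ hperm
  have hi : φ (wM (⟨false, 0, 1⟩ : Wt)⁻¹) = (φ (wM ⟨false, 0, 1⟩))⁻¹ := by
    refine eq_inv_of_mul_eq_one_left ?_
    rw [← D.hom (wM (⟨false, 0, 1⟩ : Wt)⁻¹) (wM ⟨false, 0, 1⟩) hsi hs, show wM (⟨false, 0, 1⟩ : Wt)⁻¹ * wM ⟨false, 0, 1⟩ = (1 : Mn) by decide +kernel,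
      D.phi_one]
  rw [hi, Subgroup.mul_mem_iff_of_index_two hH, Subgroup.mul_mem_iff_of_index_two hH,
    Subgroup.mul_mem_iff_of_index_two hH, inv_mem_iff]
  tauto

/-- With diagonal signs and no inversion the group is `PSp₄(3)`. -/
theorem equiv_psp [Finite G] (F : Type uF) [Field F] [Fintype F] (hF : Fintype.card F = 3) :
    Nonempty (G ≃* Cfsg.PSp 2 F) := by
  classical
  haveI : Fact (Nat.Prime 2) := ⟨Nat.prime_two⟩
  haveI : Fact (Nat.Prime 3) := ⟨Nat.prime_three⟩
  obtain ⟨t, u, e, f, d, Fr⟩ := D.amalgam.exists_frame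
  obtain ⟨hcard, ψ₀, hinj, hneg, hz, ht, hw⟩ := Fr.exists_sl
  obtain ⟨tt, ee, ff, uu, E, ψ, htt, huu, hψ, hI⟩ := Fr.exists_invData_coe (Fr.cent_e_le Fr.pair_e)
    (Fr.cent_f_le Fr.pair_f) hcard ψ₀ hinj hneg hz ht hw
  have ht2 : orderOf t = 2 := orderOf_eq_prime (by rw [pow_two, Fr.t2]) Fr.t_ne
  obtain ⟨U, t₀, h0, hU, hc, hiso⟩ := PSpAmalgam.exists_model.{uF, uG} F hF
  obtain ⟨iso⟩ := hiso _ tt ψ uu hI.doubleSL
  -- a chart of the centralizer
  obtain ⟨U', s₀, s0, hU', hc', hiso'⟩ := PSpAmalgam.exists_model.{0, uG} (ZMod 3) (ZMod.card 3)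
  obtain ⟨iso'⟩ := hiso' _ tt ψ uu hI.doubleSL
  obtain ⟨χ, -⟩ := PSpFour.Blocks.exists_chart U' s0 hU' hc'
  let χ' := χ.comp iso'
  have htc : χ'.code ⟨t, mem_centralizer_singleton_iff.2 rfl⟩ = PSpFour.Model.tc := by
    set t' : ↥(centralizer ({t} : Set G)) := ⟨t, mem_centralizer_singleton_iff.2 rfl⟩
    have hcen : ∀ b ∈ PSpFour.Model.cU false, PSpFour.Model.comm b (χ'.code t') := by
      intro b hb
      obtain ⟨g, hg⟩ := χ'.surj b (PSpFour.Model.invs_lt b ((PSpFour.Model.invs_mem false).2.1 b hb).1)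
      rw [← hg, ← PSpFour.Chart.commute_iff]
      exact Subtype.ext (mem_centralizer_singleton_iff.1 g.2)
    refine (PSpFour.Model.cU_center false _ (List.mem_range.2 (χ'.lt t')) hcen).resolve_left fun h => Fr.t_ne ?_
    exact congrArg Subtype.val ((χ'.eq_one_iff t').2 h)
  let P : PSpFour.Setup G t := ⟨χ', htc⟩
  -- no subgroup of index two
  have hG : ∀ H : Subgroup G, H.index ≠ 2 := by
    intro H hH
    obtain ⟨h1, h2⟩ := D.local_le hH
    have hCt : centralizer ({t} : Set G) ≤ H := by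
      intro g hg
      have htop : closure (Set.range ψ ∪ {uu}) ≤ H.subgroupOf (centralizer ({t} : Set G)) := by
        rw [closure_le]
        rintro x (⟨b, rfl⟩ | rfl)
        · rw [SetLike.mem_coe, mem_subgroupOf, hψ]
          exact h2 (mem_centralizer_singleton_iff.2 (hz b))
        · rw [SetLike.mem_coe, mem_subgroupOf, huu]
          exact h1 Fr.u_mem
      rw [hI.doubleSL.gen] at htop
      exact htop (mem_top (⟨g, hg⟩ : centralizer ({t} : Set G)))
    haveI := Subgroup.normal_of_index_eq_two hH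
    obtain ⟨S⟩ := (inferInstance : Nonempty (Sylow 2 G))
    obtain ⟨g, hg⟩ := P.conj_into_syl _ S.isPGroup'
    have hS : (S : Subgroup G) ≤ H := fun q hq => by
      obtain ⟨k, -, hk⟩ := hg q hq
      have := hCt (P.mem_pt k)
      rw [hk] at this
      exact (Normal.mem_comm_iff inferInstance).1 (by rwa [mul_assoc] at this) |> fun h => by
        simpa [mul_assoc] using h
    have hdvd := index_dvd_of_le hS
    rw [hH] at hdvd
    exact S.not_dvd_index hdvd
  exact S3221.result (even_iff_two_dvd.2 (ht2 ▸ orderOf_dvd_natCard t)) hG hF U t₀ h0 hU hc t ht2 iso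

end Loc

variable {G : Type*} [Group G] [Finite G] {a : G} {R J : Subgroup G} {ci cd : Bool} {φ : Mn → G}

/-- The case of four diagonal parts and no inversion. -/
theorem psp_of_four (D : Loc a R J false true φ) (F : Type*) [Field F] [Fintype F] (hF : Fintype.card F = 3) :
    Nonempty (G ≃* Cfsg.PSp 2 F) := D.equiv_psp F hF

/-- An element not conjugate to its inverse gives a normal subgroup of index three or `PSp₄(3)`. -/
theorem part_one (D : Loc a R J ci cd φ) (hnr : ∀ g, g * a * g⁻¹ ≠ a⁻¹) (F : Type*) [Field F] [Fintype F]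
    (hF : Fintype.card F = 3) :
    (∃ N : Subgroup G, N.Normal ∧ N.index = 3) ∨ Nonempty (G ≃* Cfsg.PSp 2 F) := by
  obtain rfl := D.ci_false hnr
  cases cd
  · exact Or.inl D.exists_index_three
  · exact Or.inr (psp_of_four D F hF)

end Cfsg.Agent.SpThreeCent
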