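import Cfsg.Agent.Lib.SpThreeCent.Defs

/-!
# Working with the coordinates
-/

set_option autoImplicit false
set_option linter.style.haveILetI false
set_option maxRecDepth 100000
set_option synthInstance.maxSize 10000

namespace Cfsg.Agent.SpThreeCent

open Subgroup
open Cfsg.Agent.NineSym (Mn V3 Wt InL Wok jM wM wact)

/-- Multiplication in the model. -/
theorem mn_mul (p q : Mn) : p * q = ⟨p.v + wact p.w q.v, p.w * q.w⟩ := rfl

theorem wt_one_facts : ∀ w : Wt, (1 : Wt) * w = w ∧ w * 1 = w := by decide +kernel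

theorem mn_jM_mul (p : Mn) (v : V3) : p * jM v = jM (wact p.w v) * p := by
  rw [mn_mul, mn_mul]
  simp only [jM]
  rw [NineSym.wact_one, (wt_one_facts p.w).1, (wt_one_facts p.w).2, add_comm]

theorem inL_jM (ci cd : Bool) (v : V3) : InL ci cd (jM v) := by
  show Wok ci cd (1 : Wt)
  revert ci cd; decide +kernel

theorem inL_mul {ci cd : Bool} {p q : Mn} (hp : InL ci cd p) (hq : InL ci cd q) : InL ci cd (p * q) :=
  NineSym.wok_mul ci cd _ _ hp hq

theorem inL_mono {ci cd : Bool} {p : Mn} (hp : InL false false p) : InL ci cd p :=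
  ⟨fun h => absurd (hp.1 h) Bool.false_ne_true, fun h => absurd (hp.2 h) Bool.false_ne_true⟩

/-- The elements with allowed components are pairs of a vector and an allowed signed permutation. -/
theorem card_inL (ci cd : Bool) :
    Nat.card {p : Mn // InL ci cd p} = 27 * Nat.card {w : Wt // Wok ci cd w} := by
  rw [show (27 : ℕ) = Nat.card V3 by simp [Nat.card_prod], ← Nat.card_prod]
  exact Nat.card_congr
    { toFun := fun p => (p.1.v, ⟨p.1.w, p.2⟩)
      invFun := fun t => ⟨⟨t.1, t.2.1⟩, t.2.2⟩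
      left_inv := fun p => rfl
      right_inv := fun t => rfl }

namespace Loc

variable {G : Type*} [Group G] {a : G} {R J : Subgroup G} {ci cd : Bool} {φ : Mn → G}
variable (D : Loc a R J ci cd φ)
include D

theorem phi_one : φ 1 = 1 := by
  have h1 : InL ci cd (1 : Mn) := inL_jM ci cd 0
  have := D.hom 1 1 h1 h1
  rw [mul_one] at this
  exact mul_eq_left.1 this.symm

theorem th_add (u v : V3) : φ (jM (u + v)) = φ (jM u) * φ (jM v) := by
  rw [NineSym.jM_add]; exact D.hom _ _ (inL_jM _ _ _) (inL_jM _ _ _)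

theorem th_zero : φ (jM 0) = 1 := D.phi_one

theorem th_neg (v : V3) : φ (jM (-v)) = (φ (jM v))⁻¹ := by
  refine eq_inv_of_mul_eq_one_left ?_
  rw [← D.th_add, neg_add_cancel, D.th_zero]

theorem th_inj {u v : V3} (h : φ (jM u) = φ (jM v)) : u = v :=
  congrArg Mn.v (D.inj _ _ (inL_jM _ _ _) (inL_jM _ _ _) h)

theorem th_mem (v : V3) : φ (jM v) ∈ J := (D.memJ _).2 ⟨v, rfl⟩

theorem conj_th {p : Mn} (hp : InL ci cd p) (v : V3) : φ p * φ (jM v) * (φ p)⁻¹ = φ (jM (wact p.w v)) := by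
  rw [← D.hom _ _ hp (inL_jM _ _ _), mn_jM_mul, D.hom _ _ (inL_jM _ _ _) hp, mul_inv_cancel_right]

theorem comm_J : ∀ x ∈ J, ∀ y ∈ J, x * y = y * x := by
  intro x hx y hy
  obtain ⟨u, rfl⟩ := (D.memJ x).1 hx
  obtain ⟨v, rfl⟩ := (D.memJ y).1 hy
  rw [← D.th_add, ← D.th_add, add_comm]

theorem th_cube (v : V3) : φ (jM v) ^ 3 = 1 := by
  rw [pow_three, ← D.th_add, ← D.th_add, (by decide +kernel : ∀ v : V3, v + (v + v) = 0) v, D.th_zero]

theorem exp_J : ∀ x ∈ J, x ^ 3 = 1 := by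
  intro x hx
  obtain ⟨u, rfl⟩ := (D.memJ x).1 hx
  exact D.th_cube u

theorem a_mem : a ∈ J := D.a_eq ▸ D.th_mem _

theorem card_J : Nat.card J = 27 := by
  rw [show (27 : ℕ) = Nat.card V3 by simp [Nat.card_prod]]
  exact (Nat.card_eq_of_bijective (fun v : V3 => (⟨φ (jM v), D.th_mem v⟩ : J))
    ⟨fun u v h => D.th_inj (congrArg Subtype.val h), fun x => by
      obtain ⟨v, hv⟩ := (D.memJ x).1 x.2
      exact ⟨v, Subtype.ext hv⟩⟩).symm

/-- The normalizer of `J` is equipotent to the allowed part of the model. -/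
theorem card_norm : Nat.card (normalizer (J : Set G)) = 27 * Nat.card {w : Wt // Wok ci cd w} := by
  rw [← card_inL]
  exact (Nat.card_eq_of_bijective (fun p : {p : Mn // InL ci cd p} =>
      (⟨φ p.1, D.mem_norm p.1 p.2⟩ : normalizer (J : Set G)))
    ⟨fun p q h => Subtype.ext (D.inj _ _ p.2 q.2 (congrArg Subtype.val h)), fun x => by
      obtain ⟨p, hp, he⟩ := D.norm_eq x x.2
      exact ⟨⟨p, hp⟩, Subtype.ext he⟩⟩).symm

/-- An element of `J` is a conjugate only of elements in its orbit. -/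
theorem fus' {u v : V3} {g : G} (h : g * φ (jM u) * g⁻¹ = φ (jM v)) :
    ∃ w : Wt, Wok ci cd w ∧ wact w u = v := by
  obtain ⟨p, hp, he⟩ := D.fus u v g h
  exact ⟨p.w, hp, he⟩

theorem inv_a : φ (jM (-1, -1, -1)) = a⁻¹ := by
  rw [← D.a_eq, ← D.th_neg, Prod.neg_mk, Prod.neg_mk]

/-- If `a` is not conjugate to its inverse the inversion does not occur. -/
theorem ci_false (hnr : ∀ g, g * a * g⁻¹ ≠ a⁻¹) : ci = false := by
  cases ci
  · rfl
  · exfalso
    have hp : InL true cd (wM ⟨true, 0, 0⟩) :=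
      (by decide +kernel : ∀ cd : Bool, Wok true cd ⟨true, 0, 0⟩) cd
    refine hnr (φ (wM ⟨true, 0, 0⟩)) ?_
    rw [← D.inv_a]
    conv_lhs => rw [← D.a_eq, D.conj_th hp]
    rfl

end Loc

end Cfsg.Agent.SpThreeCent
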