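import Mathlib

/-!
# Transfer to a character constant on the conjugates of one element
-/

set_option autoImplicit false
set_option linter.style.haveILetI false

namespace Cfsg.Agent.SpThreeCent

open Subgroup MulAction

variable {G : Type*} [Group G] [Finite G]

/-- If an element of order `p` outside the kernel of a character of a Sylow `p`-subgroup only has
conjugates with the same value there, then `G` has a normal subgroup of index `p`. -/
theorem exists_index_of_char {p : ℕ} (hp : p.Prime) (P : Subgroup G) (hP : ¬ p ∣ P.index)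
    (χ : ↥P →* Multiplicative (ZMod p)) (x : G) (hx : x ∈ P) (hχ : χ ⟨x, hx⟩ ≠ 1) (hxp : x ^ p = 1)
    (h : ∀ (g : G) (hg : g⁻¹ * x * g ∈ P), χ ⟨g⁻¹ * x * g, hg⟩ = χ ⟨x, hx⟩) :
    ∃ N : Subgroup G, N.Normal ∧ N.index = p := by
  classical
  haveI : Fact p.Prime := ⟨hp⟩
  haveI := P.fintypeQuotientOfFiniteIndex
  let per : Quotient (orbitRel (zpowers x) (G ⧸ P)) → ℕ := fun q => Function.minimalPeriod (x • ·) q.out
  have hcases : ∀ q, per q = 1 ∨ per q = p := fun q => by
    refine hp.eq_one_or_self_of_dvd _ (Function.IsPeriodicPt.minimalPeriod_dvd ?_)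
    show ((x • ·) : G ⧸ P → G ⧸ P)^[p] q.out = q.out
    rw [smul_iterate_apply, hxp, one_smul]
  haveI : ∀ q, NeZero (per q) := fun q => ⟨by rcases hcases q with e | e <;> rw [e] <;>
    first | exact one_ne_zero | exact hp.ne_zero⟩
  set c := χ ⟨x, hx⟩ with hc
  have hcp : c ^ p = 1 := by
    rw [hc, ← map_pow, show (⟨x, hx⟩ : P) ^ p = 1 from Subtype.ext hxp, map_one]
  have hterm : ∀ q, χ ⟨q.out.out⁻¹ * x ^ per q * q.out.out,
      QuotientGroup.out_conj_pow_minimalPeriod_mem P x q.out⟩ = c ^ per q := fun q => by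
    rcases hcases q with e | e
    · have key : ∀ (n : ℕ) (hn : n = 1) (hm : q.out.out⁻¹ * x ^ n * q.out.out ∈ P),
          χ ⟨q.out.out⁻¹ * x ^ n * q.out.out, hm⟩ = c := by
        rintro n rfl hm
        simp only [pow_one]
        exact h _ (by rwa [pow_one] at hm)
      exact (key _ e _).trans (by rw [e, pow_one])
    · have key : ∀ (n : ℕ) (hn : n = p) (hm : q.out.out⁻¹ * x ^ n * q.out.out ∈ P),
          χ ⟨q.out.out⁻¹ * x ^ n * q.out.out, hm⟩ = 1 := by
        intro n hn hm
        rw [show (⟨q.out.out⁻¹ * x ^ n * q.out.out, hm⟩ : P) = 1 from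
          Subtype.ext (by simp [hn, hxp]), map_one]
      exact (key _ e _).trans (by rw [e, hcp])
  have hsum : ∑ q, per q = P.index := by
    have e := Nat.card_congr (quotientEquivSigmaZMod P x)
    rw [Nat.card_sigma] at e
    simp only [Nat.card_zmod] at e
    exact e.symm
  have hv : MonoidHom.transfer χ x = c ^ P.index := by
    rw [MonoidHom.transfer_eq_prod_quotient_orbitRel_zpowers_quot, Finset.prod_congr rfl fun q _ => hterm q,
      Finset.prod_pow_eq_pow_sum, hsum]
  have hco : orderOf c = p := orderOf_eq_prime hcp hχ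
  have hne : MonoidHom.transfer χ x ≠ 1 := by
    rw [hv]
    intro e
    exact hP (hco ▸ orderOf_dvd_of_pow_eq_one e)
  refine ⟨(MonoidHom.transfer χ).ker, inferInstance, ?_⟩
  rw [Subgroup.index_ker]
  have h1 : Nat.card (MonoidHom.transfer χ).range ∣ p := by
    have := card_subgroup_dvd_card (MonoidHom.transfer χ).range
    rwa [show Nat.card (Multiplicative (ZMod p)) = p by rw [Nat.card_congr Multiplicative.toAdd, Nat.card_zmod]]
      at this
  refine (hp.eq_one_or_self_of_dvd _ h1).resolve_left fun e => hne ?_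
  have := Subgroup.eq_bot_of_card_eq _ e
  exact (MonoidHom.range_eq_bot_iff.1 this).symm ▸ rfl

end Cfsg.Agent.SpThreeCent
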