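import Cfsg.Agent.Lib.SpThreeCent.PartOne.Coords
import Cfsg.Agent.Lib.SpThreeCent.PartOne.Transfer
import Cfsg.Agent.Lib.PSpAmalgam.Small

/-!
# No signs: a normal subgroup of index three
-/

set_option autoImplicit false
set_option linter.style.haveILetI false
set_option maxRecDepth 100000
set_option synthInstance.maxSize 10000

namespace Cfsg.Agent.SpThreeCent

open Subgroup
open Cfsg.Agent.NineSym (Mn V3 Wt InL Wok jM wM wact)

/-- The sum of the exponents. -/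
def vsum (v : V3) : ZMod 3 := v.1 + v.2.1 + v.2.2

/-- The elements of the Sylow 3-subgroup in the model. -/
def InP (p : Mn) : Prop := InL false false p ∧ p.w.p.val < 3

instance (p : Mn) : Decidable (InP p) := inferInstanceAs (Decidable (_ ∧ _))

theorem plain_wts : (∀ w : Wt, Wok false false w → ∀ v : V3, vsum (wact w v) = vsum v ∧ wact w (1, 1, 1) = (1, 1, 1)) ∧
    (∀ u w : Wt, Wok false false u → u.p.val < 3 → Wok false false w → w.p.val < 3 →
      Wok false false (u * w) ∧ (u * w).p.val < 3 ∧ Wok false false u⁻¹ ∧ (u⁻¹).p.val < 3) := by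
  decide +kernel

theorem plain_cube : ∀ v : V3, ∀ w : Wt, InP ⟨v, w⟩ →
    (⟨v, w⟩ : Mn) * ⟨v, w⟩ * ⟨v, w⟩ = 1 → w = 1 ∨ vsum v = 0 := by decide +kernel

theorem plain_split : ∀ w : Wt, Wok false false w → w.p.val < 3 → w ≠ 1 →
    w = ⟨false, 0, 1⟩ ∨ w = ⟨false, 0, 2⟩ := by decide +kernel

theorem plain_shift : ∀ v : V3, vsum v = 0 →
    (∃ u : V3, jM u * ⟨v, ⟨false, 0, 1⟩⟩ = wM ⟨false, 0, 1⟩ * jM u) ∧
    (∃ u : V3, jM u * ⟨v, ⟨false, 0, 2⟩⟩ = wM ⟨false, 0, 2⟩ * jM u) := by decide +kernel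

theorem inP_mul {p q : Mn} (hp : InP p) (hq : InP q) : InP (p * q) :=
  ⟨(plain_wts.2 _ _ hp.1 hp.2 hq.1 hq.2).1, (plain_wts.2 _ _ hp.1 hp.2 hq.1 hq.2).2.1⟩

theorem inP_inv {p : Mn} (hp : InP p) : InP p⁻¹ :=
  ⟨(plain_wts.2 _ _ hp.1 hp.2 hp.1 hp.2).2.2.1, (plain_wts.2 _ _ hp.1 hp.2 hp.1 hp.2).2.2.2⟩

theorem card_inP : Nat.card {p : Mn // InP p} = 81 := by
  have e : {p : Mn // InP p} ≃ V3 × {w : Wt // Wok false false w ∧ w.p.val < 3} :=
    { toFun := fun p => (p.1.v, ⟨p.1.w, p.2⟩)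
      invFun := fun t => ⟨⟨t.1, t.2.1⟩, t.2.2⟩
      left_inv := fun p => rfl
      right_inv := fun t => rfl }
  rw [Nat.card_congr e, Nat.card_prod,
    show Nat.card {w : Wt // Wok false false w ∧ w.p.val < 3} = 3 by
      rw [Nat.card_eq_fintype_card]; decide +kernel]
  simp

namespace Loc

variable {G : Type*} [Group G] {a : G} {R J : Subgroup G} {φ : Mn → G}
variable (D : Loc a R J false false φ)
include D

/-- The Sylow 3-subgroup `J⟨σ⟩`. -/
def sylow3 : Subgroup G where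
  carrier := {g | ∃ p, InP p ∧ φ p = g}
  one_mem' := ⟨1, by decide +kernel, D.phi_one⟩
  mul_mem' := by
    rintro _ _ ⟨p, hp, rfl⟩ ⟨q, hq, rfl⟩
    exact ⟨p * q, inP_mul hp hq, D.hom _ _ hp.1 hq.1⟩
  inv_mem' := by
    rintro _ ⟨p, hp, rfl⟩
    refine ⟨p⁻¹, inP_inv hp, eq_inv_of_mul_eq_one_left ?_⟩
    rw [← D.hom _ _ (inP_inv hp).1 hp.1, inv_mul_cancel, D.phi_one]

theorem th_mem_sylow3 (v : V3) : φ (jM v) ∈ D.sylow3 :=
  ⟨jM v, ⟨inL_jM _ _ v, (by decide +kernel : ∀ v : V3, (jM v).w.p.val < 3) v⟩, rfl⟩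

theorem card_sylow3 : Nat.card D.sylow3 = 81 := by
  rw [← card_inP]
  exact (Nat.card_eq_of_bijective (fun p : {p : Mn // InP p} => (⟨φ p.1, p.1, p.2, rfl⟩ : D.sylow3))
    ⟨fun p q h => Subtype.ext (D.inj _ _ p.2.1 q.2.1 (congrArg Subtype.val h)), fun x => by
      obtain ⟨p, hp, he⟩ := x.2
      exact ⟨⟨p, hp⟩, Subtype.ext he⟩⟩).symm

theorem not_dvd_index [Finite G] : ¬ 3 ∣ D.sylow3.index := by
  haveI : Fact (Nat.Prime 3) := ⟨Nat.prime_three⟩
  intro hd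
  have h1 := Sylow.card_normalizer_modEq_card (p := 3) (n := 4) (H := D.sylow3)
    (by rw [D.card_sylow3]; norm_num)
  have h2 : 3 ^ 5 ∣ Nat.card G := by
    rw [← D.sylow3.card_mul_index, D.card_sylow3]
    obtain ⟨m, hm⟩ := hd
    exact ⟨m, by rw [hm]; ring⟩
  have h3 : 3 ^ 5 ∣ Nat.card (normalizer (D.sylow3 : Set G)) := Nat.modEq_zero_iff_dvd.1 (h1.trans h2.modEq_zero_nat)
  have hle : normalizer (D.sylow3 : Set G) ≤ normalizer (J : Set G) := fun g hg =>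
    D.weak _ (IsPGroup.of_card (n := 4) (by rw [D.card_sylow3]; norm_num))
      (fun j hj => by obtain ⟨v, rfl⟩ := (D.memJ j).1 hj; exact D.th_mem_sylow3 v) g fun j hj => by
        obtain ⟨v, rfl⟩ := (D.memJ j).1 hj
        exact (mem_normalizer_iff.1 hg _).1 (D.th_mem_sylow3 v)
  have h4 := h3.trans (card_dvd_of_le hle)
  rw [D.card_norm, show Nat.card {w : Wt // Wok false false w} = 6 by
    rw [Nat.card_eq_fintype_card]; decide +kernel] at h4
  norm_num at h4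

/-- The elements of `R` in the coordinates. -/
theorem mem_R [Finite G] {r : G} (hr : r ∈ R) : ∃ p, InP p ∧ vsum p.v = 0 ∧ φ p = r := by
  classical
  set Q := {p : Mn // InP p ∧ vsum p.v = 0}
  have hσ : InL false false (wM ⟨false, 0, 1⟩) := by decide +kernel
  have hmem : ∀ p : Q, φ p.1 ∈ R := by
    rintro ⟨⟨v, w⟩, ⟨hw, hw3⟩, hv⟩
    show φ ⟨v, w⟩ ∈ R
    rw [NineSym.mn_split, D.hom _ _ (inL_jM _ _ _) (show InL false false (wM w) from hw)]
    refine mul_mem (D.plane_R v hv) ?_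
    rcases em (w = 1) with rfl | hne
    · rw [show wM 1 = (1 : Mn) from rfl, D.phi_one]; exact one_mem _
    rcases plain_split w hw hw3 hne with rfl | rfl
    · exact D.shift_R
    · rw [show wM ⟨false, 0, 2⟩ = wM ⟨false, 0, 1⟩ * wM ⟨false, 0, 1⟩ by decide +kernel, D.hom _ _ hσ hσ]
      exact mul_mem D.shift_R D.shift_R
  have e : Q ≃ {v : V3 // vsum v = 0} × {w : Wt // Wok false false w ∧ w.p.val < 3} :=
    { toFun := fun p => (⟨p.1.v, p.2.2⟩, ⟨p.1.w, p.2.1⟩)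
      invFun := fun t => ⟨⟨t.1.1, t.2.1⟩, t.2.2, t.1.2⟩
      left_inv := fun p => rfl
      right_inv := fun t => rfl }
  have hc : Nat.card Q = Nat.card R := by
    rw [D.card_R, Nat.card_congr e, Nat.card_prod, show Nat.card {v : V3 // vsum v = 0} = 9 by
        rw [Nat.card_eq_fintype_card]; decide +kernel,
      show Nat.card {w : Wt // Wok false false w ∧ w.p.val < 3} = 3 by
        rw [Nat.card_eq_fintype_card]; decide +kernel]
  have hb := (Nat.bijective_iff_injective_and_card (fun p : Q => (⟨φ p.1, hmem p⟩ : R))).2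
    ⟨fun p q h => Subtype.ext (D.inj _ _ p.2.1.1 q.2.1.1 (congrArg Subtype.val h)), hc⟩
  obtain ⟨p, hp⟩ := hb.2 ⟨r, hr⟩
  exact ⟨p.1, p.2.1, p.2.2, congrArg Subtype.val hp⟩

/-- A non-trivial shift element of `R` is conjugate by `J` to the shift or its inverse. -/
theorem conj_shift {p : Mn} (hp : InP p) (hv : vsum p.v = 0) (hw : p.w ≠ 1) :
    ∃ k : G, k * φ p * k⁻¹ = φ (wM ⟨false, 0, 1⟩) ∨ k * φ p * k⁻¹ = (φ (wM ⟨false, 0, 1⟩))⁻¹ := by
  obtain ⟨v, w⟩ := p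
  simp only at hv hw
  have key : ∀ w' : Wt, InL false false (wM w') → (∃ u : V3, jM u * ⟨v, w'⟩ = wM w' * jM u) →
      ∃ k : G, k * φ ⟨v, w'⟩ * k⁻¹ = φ (wM w') := by
    rintro w' hw' ⟨u, hu⟩
    refine ⟨φ (jM u), ?_⟩
    rw [← D.hom _ _ (inL_jM _ _ _) (show InL false false ⟨v, w'⟩ from hw'), hu, D.hom _ _ hw' (inL_jM _ _ _),
      mul_inv_cancel_right]
  rcases plain_split w hp.1 hp.2 hw with rfl | rfl
  · obtain ⟨k, hk⟩ := key _ hp.1 (plain_shift v hv).1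
    exact ⟨k, Or.inl hk⟩
  · obtain ⟨k, hk⟩ := key _ hp.1 (plain_shift v hv).2
    refine ⟨k, Or.inr ?_⟩
    rw [hk]
    refine eq_inv_of_mul_eq_one_left ?_
    rw [← D.hom _ _ (by decide +kernel) (by decide +kernel), show wM ⟨false, 0, 2⟩ * wM ⟨false, 0, 1⟩ = (1 : Mn) by
      decide +kernel, D.phi_one]

/-- The shift is conjugate into the plane. -/
theorem shift_conj [Finite G] :
    ∃ (h : G) (v : V3), vsum v = 0 ∧ h * φ (wM ⟨false, 0, 1⟩) * h⁻¹ = φ (jM v) := by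
  by_contra hno
  push Not at hno
  have mC : ∀ h, h ∈ centralizer ({a} : Set G) ↔ h * a = a * h := fun h => mem_centralizer_singleton_iff
  -- the plane is invariant
  have hW : ∀ h ∈ centralizer ({a} : Set G), ∀ v, vsum v = 0 →
      ∃ v', vsum v' = 0 ∧ h * φ (jM v) * h⁻¹ = φ (jM v') := by
    intro h hh v hv
    have hm : h * φ (jM v) * h⁻¹ ∈ R := (mem_normalizer_iff.1 (D.norm hh) _).1 (D.plane_R v hv)
    obtain ⟨p, hp, hpv, hpe⟩ := D.mem_R hm
    by_cases hw : p.w = 1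
    · exact ⟨p.v, hpv, by rw [← hpe]; exact congrArg φ (congrArg (Mn.mk p.v) hw)⟩
    exfalso
    obtain ⟨k, hk | hk⟩ := D.conj_shift hp hpv hw <;> rw [hpe] at hk
    · exact hno (k * h)⁻¹ v hv (by rw [← hk]; group)
    · refine hno (k * h)⁻¹ (-v) ((by decide +kernel : ∀ v : V3, vsum v = 0 → vsum (-v) = 0) v hv) ?_
      rw [D.th_neg, show φ (wM ⟨false, 0, 1⟩) = (k * (h * φ (jM v) * h⁻¹) * k⁻¹)⁻¹ by rw [hk, inv_inv]]
      group
  set v0 : V3 := (1, -1, 0) with hv0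
  have hv0s : vsum v0 = 0 := by decide +kernel
  -- every element fixes the first vector modulo `a`
  let Pos : G → Prop := fun h => h * a = a * h ∧
    ∃ k : ZMod 3, h * φ (jM v0) * h⁻¹ = φ (jM (v0 + (k, k, k)))
  have hsplit : ∀ h ∈ centralizer ({a} : Set G), (∃ k : ZMod 3, h * φ (jM v0) * h⁻¹ = φ (jM (v0 + (k, k, k)))) ∨
      ∃ k : ZMod 3, h * φ (jM v0) * h⁻¹ = φ (jM (-v0 + (k, k, k))) := by
    intro h hh
    obtain ⟨v', -, hv'⟩ := hW h hh v0 hv0s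
    obtain ⟨w, hw, rfl⟩ := D.fus' hv'
    rcases (by decide +kernel : ∀ w : Wt, Wok false false w →
        (∃ k : ZMod 3, wact w v0 = v0 + (k, k, k)) ∨ ∃ k : ZMod 3, wact w v0 = -v0 + (k, k, k)) w hw with
      ⟨k, hk⟩ | ⟨k, hk⟩
    · exact Or.inl ⟨k, hk ▸ hv'⟩
    · exact Or.inr ⟨k, hk ▸ hv'⟩
  have hfix : ∀ h, h * a = a * h → ∀ k : ZMod 3, h * φ (jM (k, k, k)) * h⁻¹ = φ (jM (k, k, k)) := by
    intro h hh k
    have hc : Commute h (φ (jM (1, 1, 1))) := by rw [D.a_eq]; exact hh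
    rcases (by decide +kernel : ∀ k : ZMod 3, ((k, k, k) : V3) = 0 ∨ ((k, k, k) : V3) = (1, 1, 1) ∨
        ((k, k, k) : V3) = -(1, 1, 1)) k with e | e | e <;> rw [e]
    · rw [D.th_zero]; group
    · rw [hc.eq, mul_inv_cancel_right]
    · rw [D.th_neg, hc.inv_right.eq, mul_inv_cancel_right]
  have himg : ∀ h, h * a = a * h → ∀ (u : V3) (k : ZMod 3) (u' : V3), h * φ (jM u) * h⁻¹ = φ (jM u') →
      h * φ (jM (u + (k, k, k))) * h⁻¹ = φ (jM (u' + (k, k, k))) := by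
    intro h hh u k u' hu
    rw [D.th_add, ← conj_mul, hu, hfix h hh k, ← D.th_add]
  have hmul : ∀ g h, Pos g → Pos h → Pos (g * h) := by
    rintro g h ⟨hg, j, hj⟩ ⟨hh, k, hk⟩
    refine ⟨((show Commute g a from hg).mul_left hh).eq, j + k, ?_⟩
    calc g * h * φ (jM v0) * (g * h)⁻¹ = g * (h * φ (jM v0) * h⁻¹) * g⁻¹ := by group
      _ = φ (jM (v0 + (j, j, j) + (k, k, k))) := by rw [hk]; exact himg g hg v0 k _ hj
      _ = _ := by rw [add_assoc]; rfl
  have hsq : ∀ h ∈ centralizer ({a} : Set G), Pos (h * h) := by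
    intro h hh
    have hc : h * a = a * h := (mC h).1 hh
    refine ⟨((show Commute h a from hc).mul_left hc).eq, ?_⟩
    have e0 : h * h * φ (jM v0) * (h * h)⁻¹ = h * (h * φ (jM v0) * h⁻¹) * h⁻¹ := by group
    rcases hsplit h hh with ⟨k, hk⟩ | ⟨k, hk⟩
    · exact ⟨k + k, by rw [e0, hk, himg h hc v0 k _ hk, add_assoc]; rfl⟩
    · refine ⟨0, ?_⟩
      have hneg : h * φ (jM (-v0)) * h⁻¹ = φ (jM (v0 + -(k, k, k))) := by
        rw [D.th_neg, ← conj_inv, hk, ← D.th_neg, neg_add, neg_neg]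
      rw [e0, hk, himg h hc (-v0) k _ hneg]
      congr 2
      rw [neg_add_cancel_right]
      exact (add_zero v0).symm
  have hR : ∀ r ∈ R, Pos r := by
    intro r hr
    refine ⟨(mC r).1 (D.le hr), ?_⟩
    obtain ⟨n, hn⟩ := D.comm r hr _ (D.plane_R v0 hv0s)
    simp only at hn
    have e : r * φ (jM v0) * r⁻¹ = a ^ n * φ (jM v0) := by rw [hn]; group
    have hn3 : ∀ n : ℕ, ∃ k : ZMod 3, a ^ n = φ (jM (k, k, k)) := fun n => by
      induction n with
      | zero => exact ⟨0, by rw [pow_zero]; exact D.th_zero.symm⟩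
      | succ n ih =>
        obtain ⟨k, hk⟩ := ih
        refine ⟨k + 1, ?_⟩
        rw [pow_succ, hk, show ((k + 1, k + 1, k + 1) : V3) = (k, k, k) + (1, 1, 1) from rfl, D.th_add, D.a_eq]
    obtain ⟨m, hm⟩ : ∃ m : ℕ, a ^ n = a ^ m :=
      (IsOfFinOrder.mem_powers_iff_mem_zpowers (isOfFinOrder_of_finite a)).2 ⟨n, rfl⟩ |>.imp fun m h => h.symm
    obtain ⟨k, hk⟩ := hn3 m
    exact ⟨k, by rw [e, hm, hk, ← D.th_add, add_comm]⟩
  have hall : ∀ h ∈ centralizer ({a} : Set G), Pos h := by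
    intro h hh
    obtain ⟨π, hπs, hπ⟩ := D.quot
    obtain ⟨p, q, hpq⟩ := PSpAmalgam.sl_two_squares (π ⟨h, hh⟩)
    obtain ⟨a1, rfl⟩ := hπs p
    obtain ⟨a2, rfl⟩ := hπs q
    have hc : ((⟨h, hh⟩ * (a1 * a1 * (a2 * a2))⁻¹ : centralizer ({a} : Set G)) : G) ∈ R :=
      (hπ _).1 (by rw [map_mul, map_inv, hpq]; simp only [map_mul]; exact mul_inv_cancel _)
    have := hmul _ _ (hR _ hc) (hmul _ _ (hsq _ a1.2) (hsq _ a2.2))
    simpa [mul_assoc] using this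
  have hρ : InL false false (wM ⟨false, 0, 3⟩) := by decide +kernel
  obtain ⟨-, k, hk⟩ := hall (φ (wM ⟨false, 0, 3⟩)) ((mC _).2 (by
    have := D.conj_th hρ (1, 1, 1)
    rw [show wact (wM ⟨false, 0, 3⟩ : Mn).w (1, 1, 1) = (1, 1, 1) by decide +kernel, D.a_eq] at this
    exact mul_inv_eq_iff_eq_mul.1 this))
  rw [D.conj_th hρ] at hk
  exact (by decide +kernel : ∀ k : ZMod 3, wact (wM ⟨false, 0, 3⟩ : Mn).w ((1, -1, 0) : V3) ≠ (1, -1, 0) + (k, k, k))
    k (D.th_inj hk)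

/-- Without signs there is a normal subgroup of index three. -/
theorem exists_index_three [Finite G] : ∃ N : Subgroup G, N.Normal ∧ N.index = 3 := by
  classical
  choose sel hsel hself using fun x : D.sylow3 => x.2
  let χ : D.sylow3 →* Multiplicative (ZMod 3) := MonoidHom.mk' (fun x => Multiplicative.ofAdd (vsum (sel x).v))
    (fun x y => by
      have e : sel (x * y) = sel x * sel y := D.inj _ _ (hsel _).1 (inP_mul (hsel x) (hsel y)).1 (by
        rw [hself, D.hom _ _ (hsel x).1 (hsel y).1, hself, hself]; rfl)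
      rw [e, mn_mul, ← ofAdd_add]
      congr 1
      rw [← (plain_wts.1 _ (hsel x).1 (sel y).v).1]
      simp only [vsum, Prod.fst_add, Prod.snd_add]
      abel)
  have hval : ∀ (p : Mn) (hp : InP p) (hm : φ p ∈ D.sylow3),
      χ ⟨φ p, hm⟩ = Multiplicative.ofAdd (vsum p.v) := fun p hp hm => by
    rw [MonoidHom.mk'_apply, D.inj _ _ (hsel ⟨φ p, hm⟩).1 hp.1 (hself _)]
  have hxP : InP (jM (1, 0, 0)) := by decide +kernel
  refine exists_index_of_char Nat.prime_three D.sylow3 D.not_dvd_index χ (φ (jM (1, 0, 0))) (D.th_mem_sylow3 _)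
    ?_ (D.th_cube _) fun g hg => ?_
  · rw [hval _ hxP]; decide +kernel
  obtain ⟨p, hp, hpe⟩ := id hg
  have e1 : χ ⟨g⁻¹ * φ (jM (1, 0, 0)) * g, hg⟩ = Multiplicative.ofAdd (vsum p.v) := by
    exact (congrArg χ (Subtype.ext hpe.symm)).trans (hval p hp ⟨p, hp, rfl⟩)
  rw [e1, hval _ hxP]
  congr 1
  have hinv : ∀ (k : G) (v : V3), k * φ (jM (1, 0, 0)) * k⁻¹ = φ (jM v) → vsum v = vsum (jM (1, 0, 0)).v := by
    intro k v hk
    obtain ⟨w, hw, rfl⟩ := D.fus' hk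
    exact (plain_wts.1 w hw _).1
  by_cases hw : p.w = 1
  · refine hinv g⁻¹ p.v ?_
    rw [inv_inv, ← hpe]; exact congrArg φ (congrArg (Mn.mk p.v) hw)
  exfalso
  have h3 : p * p * p = 1 := by
    refine D.inj _ _ (inP_mul (inP_mul hp hp) hp).1 (inL_jM _ _ 0) ?_
    rw [D.hom _ _ (inP_mul hp hp).1 hp.1, D.hom _ _ hp.1 hp.1, hpe]
    calc _ = g⁻¹ * φ (jM (1, 0, 0)) ^ 3 * g := by rw [pow_three]; group
      _ = φ (jM 0) := by rw [D.th_cube, D.th_zero]; group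
  obtain ⟨v, w⟩ := p
  have hv : vsum v = 0 := (plain_cube v w hp h3).resolve_left hw
  obtain ⟨h, v', hv', hh⟩ := D.shift_conj
  obtain ⟨k, hk | hk⟩ := D.conj_shift hp hv hw <;> rw [hpe] at hk
  · have e := hinv (h * k * g⁻¹) v' (by rw [← hh, ← hk]; group)
    rw [hv'] at e
    exact (by decide +kernel : (0 : ZMod 3) ≠ vsum (jM (1, 0, 0)).v) e
  · have e := hinv (h * k * g⁻¹) (-v') (by
      rw [D.th_neg, ← hh, show φ (wM ⟨false, 0, 1⟩) = (k * (g⁻¹ * φ (jM (1, 0, 0)) * g) * k⁻¹)⁻¹ by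
        rw [hk, inv_inv]]
      group)
    rw [(by decide +kernel : ∀ v : V3, vsum v = 0 → vsum (-v) = 0) v' hv'] at e
    exact (by decide +kernel : (0 : ZMod 3) ≠ vsum (jM (1, 0, 0)).v) e

end Loc

end Cfsg.Agent.SpThreeCent
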